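import Mathlib.Init

/-!
Shape of the certificates of the two classes of sign vectors of type E8.
-/

set_option autoImplicit false

namespace H13.E8I

/-- One level of coset representatives in the stabiliser. -/
structure Lv where
  /-- Roots separating the cosets. -/
  S : List Nat
  /-- Packed rows of the representatives. -/
  rows : List Nat
  /-- Generator, parent, inverted root. -/
  info : List (Nat × Nat × Nat)
  /-- Lengths. -/
  lens : List Nat
  /-- Transitions. -/
  tr : List (List (Nat × Nat))

/-- The certificate of one class of sign vectors. -/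
structure Cert where
  /-- The representative. -/
  v : Nat
  /-- Simple roots of the subsystem. -/
  base : List Nat
  /-- Words of their reflections. -/
  words : List (List Nat)
  /-- Packed rows of their reflections. -/
  tau : List Nat
  /-- The levels. -/
  lvs : List Lv
  /-- The orbit. -/
  orb : List Nat
  /-- Packed rows of the orbit representatives. -/
  td : List Nat
  /-- Generator and parent. -/
  tinfo : List (Nat × Nat)
  /-- Transitions. -/
  ttr : List (List (Nat × Nat))

/-- Parities of the Cartan integers of the roots. -/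
def mask : List Nat :=
  [128, 192, 96, 48, 24, 14, 7, 6, 15, 25, 49, 97, 193, 129, 3, 11, 29, 53, 101, 197, 133, 20, 60, 108, 204, 140, 42, 122, 218, 154, 82, 242, 178, 162,
    226, 66, 34, 114, 210, 146, 90, 250, 186, 170, 234, 74, 76, 236, 172, 188, 252, 92, 148, 212, 116, 36, 69, 229, 165, 181, 245, 85, 157, 221, 125, 45,
    139, 203, 107, 59, 19, 131, 195, 99, 51, 27, 13, 4, 65, 225, 161, 177, 241, 81, 153, 217, 121, 41, 143, 207, 111, 63, 23, 134, 198, 102, 54, 30, 8,
    135, 199, 103, 55, 31, 9, 142, 206, 110, 62, 22, 152, 216, 120, 40, 176, 240, 80, 224, 160, 64, 64, 160, 224, 80, 240, 176, 40, 120, 216, 152, 22, 62,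
    110, 206, 142, 9, 31, 55, 103, 199, 135, 8, 30, 54, 102, 198, 134, 23, 63, 111, 207, 143, 41, 121, 217, 153, 81, 241, 177, 161, 225, 65, 4, 13, 27, 51,
    99, 195, 131, 19, 59, 107, 203, 139, 45, 125, 221, 157, 85, 245, 181, 165, 229, 69, 36, 116, 212, 148, 92, 252, 188, 172, 236, 76, 74, 234, 170, 186,
    250, 90, 146, 210, 114, 34, 66, 226, 162, 178, 242, 82, 154, 218, 122, 42, 140, 204, 108, 60, 20, 133, 197, 101, 53, 29, 11, 3, 129, 193, 97, 49, 25,
    15, 6, 7, 14, 24, 48, 96, 192, 128]

end H13.E8I
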