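import Cfsg.Agent.H13.E8I.Cert
import Cfsg.Agent.H53.WeylE8
import Cfsg.Agent.H52.Check
import Cfsg.Agent.H52.WeylPoly
import Cfsg.Agent.H52.Order
import Cfsg.Prelude.Def_ChevE8

/-!
The conditions verified by the kernel on the certificates of type E8.
-/

set_option autoImplicit false

namespace H13.E8I

open Cfsg.Lie

/-- The image of a root in a packed row. -/
def pg (P s : ℕ) : ℕ := (P >>> (8 * s)) % 256

/-- The action of a fundamental reflection. -/
def act (i r : ℕ) : ℕ := (H53.e8WeylAct.get r).getD i 0 % 240

/-- The fundamental roots. -/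
def simp8 (k : ℕ) : ℕ := [162, 141, 135, 130, 126, 123, 121, 120].getD k 0

/-- Parity through the masks. -/
def evF (v r : ℕ) : Bool :=
  let M := mask.getD r 0
  ((List.range 8).map fun i => (v / 2 ^ i % 2) * (M / 2 ^ i % 2)).sum % 2 == 0

/-- The masks are right. -/
def maskOK : Bool :=
  (List.range 240).all fun r => (List.range 8).all fun i =>
    ((mask.getD r 0 / 2 ^ i % 2 : ℕ) : ℤ) == chevE8.cartan i r % 2

/-- The fundamental roots are right. -/
def simpOK : Bool := (List.range 8).all fun k => chevE8.simple k == simp8 k

/-- A positive even root. -/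
def inT (v r : ℕ) : Bool := decide (120 ≤ r) && decide (r < 240) && evF v r

variable (c : Cert)

/-- The row of a reflection of the subsystem. -/
def tauR (j : ℕ) : ℕ := c.tau.getD j 0

/-- The root of a reflection of the subsystem. -/
def baseR (j : ℕ) : ℕ := c.base.getD j 0

/-- The rows of the reflections come from their words. -/
def tauOK : Bool :=
  (List.range 8).all fun j => (List.range 240).all fun r =>
    pg (tauR c j) r == (c.words.getD j []).foldr (fun i x => act (i % 8) x) r

/-- The reflections of the subsystem. -/
def reflOK : Bool :=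
  (List.range 8).all fun j =>
    inT c.v (baseR c j) && !inT c.v (pg (tauR c j) (baseR c j)) &&
      pg (tauR c j) (baseR c j) == 239 - baseR c j &&
      ((List.range 240).all fun r => pg (tauR c j) r < 240 &&
        pg (tauR c j) (pg (tauR c j) r) == r &&
        (!inT c.v r || r == baseR c j || inT c.v (pg (tauR c j) r))) &&
      (List.range 8).all fun k => evF c.v (pg (tauR c j) (simp8 k)) == evF c.v (simp8 k)

/-- The target of a transition. -/
def sub (j x : ℕ) : ℕ := if j = 8 then x else pg (tauR c j) x

/-- The representatives of the orbit. -/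
def topRowOK : Bool :=
  (List.range c.td.length).all fun p =>
    if p = 0 then (List.range 240).all fun r => pg (c.td.getD p 0) r == r
    else
      let e := c.tinfo.getD p (0, 0)
      decide (e.1 < 8) && decide (e.2 < p) &&
        (List.range 240).all fun r => pg (c.td.getD p 0) r == act e.1 (pg (c.td.getD e.2 0) r)

/-- The sign vectors of the orbit. -/
def topOrbOK : Bool :=
  decide (c.orb.length = c.td.length) && decide (0 < c.td.length) &&
    (List.range c.td.length).all fun p =>
      (List.range 8).all (fun k =>
        evF (c.orb.getD p 0) (pg (c.td.getD p 0) (simp8 k)) == evF c.v (simp8 k)) &&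
      decide (c.orb.getD p 0 < 256) &&
      (p == 0 || (List.range 8).any fun k =>
        evF c.v (pg (c.td.getD p 0) (simp8 k)) != evF c.v (simp8 k))

/-- The transitions of the orbit. -/
def topTransOK : Bool :=
  (List.range c.td.length).all fun p => (List.range 8).all fun i =>
    let e := (c.ttr.getD p []).getD i (0, 0)
    decide (e.1 < c.td.length) && decide (e.2 ≤ 8) &&
      (List.range 8).all fun k => act i (pg (c.td.getD p 0) (simp8 k)) ==
        pg (c.td.getD e.1 0) (sub c e.2 (simp8 k))

/-- The level `k`. -/
def lvl (k : ℕ) : Lv := c.lvs.getD k ⟨[], [], [], [], []⟩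

/-- A code of the image of a set of roots. -/
def fpOf (S : List ℕ) (P : ℕ) : ℕ := S.foldl (fun a r => a ||| 1 <<< pg P r) 0

/-- Distinct entries. -/
def nodupB : List ℕ → Bool
  | [] => true
  | a :: l => l.all (fun b => a != b) && nodupB l

/-- One level. -/
def lvOK (k : ℕ) : Bool :=
  let l := lvl c k
  decide (0 < l.rows.length) &&
  (l.S.all fun r => inT c.v r &&
    (List.range' (k + 1) (7 - k)).all fun j => l.S.contains (pg (tauR c j) r)) &&
  ((List.range l.rows.length).all fun p =>
    if p = 0 then l.lens.getD p 0 == 0 && (List.range 240).all fun r => pg (l.rows.getD p 0) r == r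
    else
      let e := l.info.getD p (0, 0, 0)
      decide (k ≤ e.1) && decide (e.1 < 8) && decide (e.2.1 < p) &&
        l.lens.getD p 0 == l.lens.getD e.2.1 0 + 1 && l.S.contains e.2.2 &&
        pg (l.rows.getD e.2.1 0) e.2.2 == baseR c e.1 &&
        pg (l.rows.getD e.2.1 0) (239 - e.2.2) == 239 - baseR c e.1 &&
        (List.range 240).all fun r =>
          pg (l.rows.getD p 0) r == pg (tauR c e.1) (pg (l.rows.getD e.2.1 0) r)) &&
  ((List.range l.rows.length).all fun p => (List.range (8 - k)).all fun i =>
    let e := (l.tr.getD p []).getD i (0, 0)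
    decide (e.1 < l.rows.length) && decide (k < e.2) && decide (e.2 ≤ 8) &&
      (List.range 8).all fun a => pg (tauR c (k + i)) (pg (l.rows.getD p 0) (simp8 a)) ==
        pg (l.rows.getD e.1 0) (sub c e.2 (simp8 a))) &&
  nodupB (l.rows.map (fpOf l.S))

/-- The polynomial of a level. -/
def lvPoly (k : ℕ) : List ℤ :=
  let l := lvl c k
  H52.pSum ((List.range l.rows.length).map fun p => H52.pMon (l.lens.getD p 0))

/-- The product formula. -/
def polyOK (ds : List ℕ) : Bool :=
  H52.pEq (H52.pProd (List.replicate 8 [-1, 1] ++ (List.range 8).map (lvPoly c)))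
    (H52.pProd (ds.map H52.pSubOne))

/-- The number of positive even roots. -/
def posE (v : ℕ) : ℕ := ((List.range 240).filter fun r => inT v r).length

end H13.E8I
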