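import Cfsg.Agent.H13.E8I.Check
import Cfsg.Agent.H13.E8I.DataA
import Cfsg.Agent.H13.E8I.DataB

/-!
Kernel verification of the certificates of type E8.
-/

set_option autoImplicit false
set_option maxRecDepth 100000

namespace H13.E8I

/-- All the conditions on a certificate. -/
structure OK (c : Cert) (ds : List ℕ) (pe : ℕ) : Prop where
  vlt : c.v < 256
  tau : tauOK c = true
  refl : reflOK c = true
  topRow : topRowOK c = true
  topOrb : topOrbOK c = true
  topTrans : topTransOK c = true
  lv : ∀ k < 8, lvOK c k = true
  poly : polyOK c ds = true
  pe : posE c.v = pe

theorem mask_ok : maskOK = true := by decide +kernel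
theorem simp_ok : simpOK = true := by decide +kernel

theorem okA : OK certA [2, 2, 6, 8, 10, 12, 14, 18] 64 where
  vlt := by decide
  tau := by decide +kernel
  refl := by decide +kernel
  topRow := by decide +kernel
  topOrb := by decide +kernel
  topTrans := by decide +kernel
  lv := by decide +kernel
  poly := by decide +kernel
  pe := by decide +kernel

theorem okB : OK certB [2, 4, 6, 8, 10, 12, 14, 8] 56 where
  vlt := by decide
  tau := by decide +kernel
  refl := by decide +kernel
  topRow := by decide +kernel
  topOrb := by decide +kernel
  topTrans := by decide +kernel
  lv := by decide +kernel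
  poly := by decide +kernel
  pe := by decide +kernel

/-- The two orbits cover all nonzero sign vectors. -/
theorem cover_ok : ((List.range' 1 255).all fun v =>
    certA.orb.contains v || certB.orb.contains v) = true := by decide +kernel

end H13.E8I
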