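import Cfsg.Agent.H13.E8I.Check
import Cfsg.Agent.H13.InvT.Reduce
import Cfsg.Agent.H13.InvT.Torus
import Cfsg.Agent.H52.DataE8
import Cfsg.Agent.H53.ChevWeyl

/-!
The datum of type E8 and its translation to the tables.
-/

set_option autoImplicit false
set_option linter.unusedSectionVars false
set_option maxRecDepth 10000

open Cfsg.Lie

namespace H13.E8I

/-- The data of type E8. -/
def CC : H54.Ctx chevE8 where
  T := H52.tablesE8
  hC := H52.checkedE8
  W := H53.weylForE8
  hok := H54.chainOK_of_mem _ (by simp)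

theorem nroots_eq : chevE8.nroots = 240 := by decide +kernel

theorem rank_eq : chevE8.rank = 8 := by decide +kernel

theorem lt240 (r : Fin chevE8.nroots) : r.val < 240 := lt_of_lt_of_le r.isLt nroots_eq.le

theorem lt8 (i : Fin chevE8.rank) : i.val < 8 := lt_of_lt_of_le i.isLt rank_eq.le

/-- A root from its index. -/
def root (j : ℕ) (hj : j < 240) : Fin chevE8.nroots := ⟨j, lt_of_lt_of_le hj nroots_eq.ge⟩

/-- A fundamental index. -/
def fidx (i : ℕ) (hi : i < 8) : Fin chevE8.rank := ⟨i, lt_of_lt_of_le hi rank_eq.ge⟩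

theorem sigma_act (i : Fin chevE8.rank) (r : Fin chevE8.nroots) :
    (CC.W.sigma i r).val = act i.val r.val := rfl

theorem simp_val (k : Fin chevE8.rank) : (CC.simpleF k).val = simp8 k.val := by
  have h := simp_ok'
  simp only [simpOK, List.all_eq_true, List.mem_range, beq_iff_eq] at h
  exact h k.val (lt8 k)
where
  simp_ok' : simpOK = true := by decide +kernel

theorem evF_eq (hm : maskOK = true) {v r : ℕ} (hr : r < 240) :
    InvT.ev chevE8 v r = evF v r := by
  simp only [maskOK, List.all_eq_true, List.mem_range, beq_iff_eq] at hm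
  have hm' := hm r hr
  rw [Bool.eq_iff_iff, InvT.ev_iff, evF, beq_iff_eq, InvT.sS]
  set M := mask.getD r 0
  have e : ((∑ i : Fin chevE8.rank, ((v / 2 ^ i.val % 2 : ℕ) : ℤ) * chevE8.cartan i.val r : ℤ) :
      ZMod 2) = (((((List.range 8).map fun i => (v / 2 ^ i % 2) * (M / 2 ^ i % 2)).sum : ℕ) : ℤ) :
      ZMod 2) := by
    rw [← List.sum_toFinset _ List.nodup_range, List.toFinset_range,
      ← Fin.sum_univ_eq_sum_range, ← Fintype.sum_equiv (finCongr rank_eq)
        (fun i : Fin chevE8.rank => (v / 2 ^ i.val % 2) * (M / 2 ^ i.val % 2))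
        (fun i : Fin 8 => (v / 2 ^ i.val % 2) * (M / 2 ^ i.val % 2)) (fun _ => rfl)]
    push_cast
    refine Finset.sum_congr rfl fun i _ => ?_
    congr 1
    have h := hm' i.val (lt8 i)
    rw [ZMod.intCast_eq_intCast_iff']
    push_cast at h ⊢
    omega
  rw [e, ZMod.intCast_zmod_eq_zero_iff_dvd]
  omega

theorem mem_pos_iff (r : Fin chevE8.nroots) : InvT.Pos' r ↔ 120 ≤ r.val := by
  have h := nroots_eq
  show chevE8.nroots / 2 ≤ r.val ↔ _
  omega

theorem neg_val (r : Fin chevE8.nroots) : (CC.W.negF r).val = 239 - r.val := by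
  have h := nroots_eq
  rw [H53.WeylFor.negF_val]
  omega

theorem laced : InvT.Laced CC where
  adj := by decide +kernel
  symm := by decide +kernel
  pick := by decide +kernel
  supp := by decide +kernel

theorem comm_ok : InvT.CommOK (D := chevE8) := by
  unfold InvT.CommOK
  decide +kernel

theorem divisors : H52.HasDivisors chevE8 fun _ => 1 := by
  have e : (fun _ : Fin chevE8.rank => 1) = (![1, 1, 1, 1, 1, 1, 1, 1] : Fin 8 → ℕ) := by
    funext i
    exact ((show ∀ j : Fin 8, (![1, 1, 1, 1, 1, 1, 1, 1] : Fin 8 → ℕ) j = 1 by decide) i).symm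
  rw [e]
  exact H52.divisorsE8

end H13.E8I
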