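import Cfsg.Agent.H13.E8I.Sound

/-!
The two classes of involutions of E8 in odd characteristic.
-/

set_option autoImplicit false
set_option linter.unusedSectionVars false
set_option maxRecDepth 10000

open Cfsg.Lie

namespace H13.E8I

variable {F : Type*} [Field F] [Fintype F]

theorem card_cent (h2 : (2 : F) ≠ 0) {c : Cert} {ds : List ℕ} {pe : ℕ} (h : OK c ds pe) :
    Nat.card (Subgroup.centralizer ({InvT.tv CC (F := F) c.v} : Set ↥(chevE8.group F))) =
      Fintype.card F ^ pe * (ds.map fun e => Fintype.card F ^ e - 1).prod := by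
  rw [InvT.card_cent CC h2 divisors, ← stab_sum h _ Fintype.card_pos,
    show (InvT.fixPart c.v (InvT.posRts (D := chevE8))).card = pe from card_posT h, rank_eq,
    mul_assoc]

theorem order_two (h2 : (2 : F) ≠ 0) {c : Cert} {ds : List ℕ} {pe : ℕ} (_h : OK c ds pe)
    {j : ℕ} (hj : j < 240) (he : evF c.v j = false) :
    orderOf (InvT.tv CC (F := F) c.v) = 2 :=
  orderOf_eq_prime (by rw [pow_two, InvT.tv_sq])
    (InvT.tv_ne_one CC h2 (r := root j hj) (by rw [evF_eq mask_ok (lt240 _)]; exact he))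

theorem conj_of_orb (h2 : (2 : F) ≠ 0) {c : Cert} {ds : List ℕ} {pe : ℕ} (h : OK c ds pe)
    {w : ℕ} (hw : w ∈ c.orb) : IsConj (InvT.tv CC (F := F) w) (InvT.tv CC c.v) := by
  obtain ⟨-, π, hπ, hev⟩ := orb_spec h hw
  obtain ⟨L, rfl⟩ := CC.exists_wperm hπ
  exact (isConj_iff.2 ⟨CC.nwG L,
    (InvT.conj_tv CC h2 (CC.nwG_mem_N L) (CC.nwG_acts L)).2 hev⟩).symm

/-- Every involution is conjugate to one of the two representatives. -/
theorem exists_conj_rep (h2 : (2 : F) ≠ 0) {u : ↥(chevE8.group F)} (hu : u * u = 1) (hu1 : u ≠ 1) :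
    IsConj u (InvT.tv CC certA.v) ∨ IsConj u (InvT.tv CC certB.v) := by
  obtain ⟨y, hy⟩ := InvT.exists_conj_H CC laced comm_ok h2 hu
  obtain ⟨v, hv, he⟩ := InvT.exists_tv CC divisors hy (by
    rw [show y * u * y⁻¹ * (y * u * y⁻¹) = y * (u * u) * y⁻¹ by group, hu, mul_one,
      mul_inv_cancel])
  have hv256 : v < 256 := by rwa [rank_eq] at hv
  have hc : IsConj u (InvT.tv CC v) := isConj_iff.2 ⟨y, he⟩
  have hv0 : v ≠ 0 := by
    rintro rfl
    rw [InvT.tv_zero, conj_eq_one_iff] at he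
    exact hu1 he
  have hcov := cover_ok
  simp only [List.all_eq_true, List.mem_range'_1, Bool.or_eq_true, List.contains_iff_mem] at hcov
  rcases hcov v ⟨by omega, by omega⟩ with h | h
  · exact Or.inl (hc.trans (conj_of_orb h2 okA h))
  · exact Or.inr (hc.trans (conj_of_orb h2 okB h))

/-- The statement. -/
theorem main (hF : Odd (Fintype.card F)) : ∃ s t : ↥(chevE8.group F), orderOf s = 2 ∧
    orderOf t = 2 ∧ ¬ IsConj s t ∧
    (∀ u : ↥(chevE8.group F), orderOf u = 2 → IsConj u s ∨ IsConj u t) ∧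
    Nat.card (Subgroup.centralizer ({s} : Set ↥(chevE8.group F))) = Fintype.card F ^ 56 *
      (Fintype.card F ^ 8 - 1) * ∏ i ∈ Finset.Icc 1 7, (Fintype.card F ^ (2 * i) - 1) ∧
    Nat.card (Subgroup.centralizer ({t} : Set ↥(chevE8.group F))) = Fintype.card F ^ 64 *
      (Fintype.card F ^ 2 - 1) ^ 2 * (Fintype.card F ^ 6 - 1) * (Fintype.card F ^ 8 - 1) *
      (Fintype.card F ^ 10 - 1) * (Fintype.card F ^ 12 - 1) * (Fintype.card F ^ 14 - 1) *
      (Fintype.card F ^ 18 - 1) := by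
  have h2 : (2 : F) ≠ 0 := by
    intro h
    have hc : ringChar F = 2 := by
      have : CharP F 2 := CharTwo.of_one_ne_zero_of_two_eq_zero one_ne_zero h
      exact (ringChar.eq F 2)
    exact (Nat.not_even_iff_odd.2 hF) (Nat.even_iff.2 (FiniteField.even_card_of_char_two hc))
  set q := Fintype.card F with hq
  have hq3 : 2 ≤ q := Fintype.one_lt_card
  have cs : Nat.card (Subgroup.centralizer ({InvT.tv CC (F := F) certB.v} : Set ↥(chevE8.group F))) =
      q ^ 56 * (q ^ 8 - 1) * ∏ i ∈ Finset.Icc 1 7, (q ^ (2 * i) - 1) := by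
    rw [card_cent h2 okB,
      show Finset.Icc 1 7 = ({1, 2, 3, 4, 5, 6, 7} : Finset ℕ) from rfl]
    simp only [List.map_cons, List.map_nil, List.prod_cons, List.prod_nil, mul_one, ← hq]
    simp
    ring
  have ct : Nat.card (Subgroup.centralizer ({InvT.tv CC (F := F) certA.v} : Set ↥(chevE8.group F))) =
      q ^ 64 * (q ^ 2 - 1) ^ 2 * (q ^ 6 - 1) * (q ^ 8 - 1) * (q ^ 10 - 1) * (q ^ 12 - 1) *
        (q ^ 14 - 1) * (q ^ 18 - 1) := by
    rw [card_cent h2 okA]
    simp only [List.map_cons, List.map_nil, List.prod_cons, List.prod_nil, mul_one, ← hq]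
    ring
  obtain ⟨jB, hjB, heB⟩ : ∃ j < 240, evF certB.v j = false := by decide +kernel
  obtain ⟨jA, hjA, heA⟩ : ∃ j < 240, evF certA.v j = false := by decide +kernel
  refine ⟨InvT.tv CC certB.v, InvT.tv CC certA.v, order_two h2 okB hjB heB,
    order_two h2 okA hjA heA, ?_, ?_, cs, ct⟩
  · intro h
    obtain ⟨g, hg⟩ := isConj_iff.1 h
    have he : Nat.card (Subgroup.centralizer ({InvT.tv CC (F := F) certB.v} : Set ↥(chevE8.group F))) =
        Nat.card (Subgroup.centralizer ({InvT.tv CC (F := F) certA.v} : Set ↥(chevE8.group F))) := by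
      refine Nat.card_congr ((MulAut.conj g).toEquiv.subtypeEquiv fun x => ?_)
      rw [Subgroup.mem_centralizer_singleton_iff, Subgroup.mem_centralizer_singleton_iff, ← hg]
      show _ ↔ g * x * g⁻¹ * (g * InvT.tv CC certB.v * g⁻¹) =
        g * InvT.tv CC certB.v * g⁻¹ * (g * x * g⁻¹)
      rw [show g * x * g⁻¹ * (g * InvT.tv CC certB.v * g⁻¹) = g * (x * InvT.tv CC certB.v) * g⁻¹ by
          group,
        show g * InvT.tv CC certB.v * g⁻¹ * (g * x * g⁻¹) = g * (InvT.tv CC certB.v * x) * g⁻¹ by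
          group,
        mul_left_inj, mul_right_inj]
    rw [cs, ct, show Finset.Icc 1 7 = ({1, 2, 3, 4, 5, 6, 7} : Finset ℕ) from rfl] at he
    simp at he
    have hp : ∀ e, 1 ≤ e → 0 < q ^ e - 1 := fun e h' => by
      have : q ≤ q ^ e := Nat.le_self_pow (by omega) _
      omega
    -- cancel the common factors
    have h8 : q ^ 8 - 1 < q ^ 18 - 1 := by
      have : q ^ 8 < q ^ 18 := Nat.pow_lt_pow_right (by omega) (by norm_num)
      have : 1 ≤ q ^ 8 := Nat.one_le_pow _ _ (by omega)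
      omega
    have key : q ^ 56 * ((q ^ 4 - 1) * (q ^ 8 - 1)) = q ^ 64 * ((q ^ 2 - 1) * (q ^ 18 - 1)) := by
      apply Nat.eq_of_mul_eq_mul_right (mul_pos (mul_pos (mul_pos (mul_pos (mul_pos
        (hp 2 (by norm_num)) (hp 6 (by norm_num))) (hp 8 (by norm_num)))
        (hp 10 (by norm_num))) (hp 12 (by norm_num))) (hp 14 (by norm_num)))
      rw [show q ^ 56 * ((q ^ 4 - 1) * (q ^ 8 - 1)) * ((q ^ 2 - 1) * (q ^ 6 - 1) * (q ^ 8 - 1) *
          (q ^ 10 - 1) * (q ^ 12 - 1) * (q ^ 14 - 1)) = q ^ 56 * (q ^ 8 - 1) * ((q ^ 2 - 1) *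
          ((q ^ 4 - 1) * ((q ^ 6 - 1) * ((q ^ 8 - 1) * ((q ^ 10 - 1) * ((q ^ 12 - 1) *
          (q ^ 14 - 1))))))) by ring, he]
      ring
    have e64 : q ^ 64 = q ^ 56 * q ^ 8 := by ring
    rw [e64, mul_assoc] at key
    have key' := Nat.eq_of_mul_eq_mul_left (pow_pos (by omega : 0 < q) 56) key
    have hlt : (q ^ 4 - 1) * (q ^ 8 - 1) < q ^ 4 * (q ^ 18 - 1) :=
      Nat.mul_lt_mul_of_le_of_lt (Nat.sub_le _ _) h8 (pow_pos (by omega) 4)
    have hge : q ^ 4 ≤ q ^ 8 * (q ^ 2 - 1) :=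
      le_trans (Nat.pow_le_pow_right (by omega) (by norm_num))
        (Nat.le_mul_of_pos_right _ (hp 2 (by norm_num)))
    rw [← mul_assoc] at key'
    exact absurd key' (ne_of_lt (lt_of_lt_of_le hlt (Nat.mul_le_mul_right _ hge)))
  · intro u hu
    refine (exists_conj_rep h2 ?_ ?_).symm
    · rw [← pow_two, ← hu]; exact pow_orderOf_eq_one u
    · intro h1; rw [h1, orderOf_one] at hu; exact absurd hu (by norm_num)

end H13.E8I
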