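import Cfsg.Agent.H13.E8I.Checks
import Cfsg.Agent.H13.E8I.Ctx
import Cfsg.Agent.H13.InvT.Cent
import Cfsg.Agent.H13.InvT.Levels

/-!
What the certificates prove: the orbit of the sign vector, its stabiliser in the Weyl group and the
generating function of the latter.
-/

set_option autoImplicit false
set_option linter.unusedSectionVars false
set_option maxRecDepth 10000

open Cfsg.Lie

namespace H13.E8I

variable {c : Cert} {ds : List ℕ} {pe : ℕ}

/-- The reflections of the subsystem. -/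
def tau (c : Cert) (j : Fin 8) : Equiv.Perm (Fin chevE8.nroots) :=
  CC.wperm ((c.words.getD j.val []).map fun x => fidx (x % 8) (Nat.mod_lt _ (by omega)))

theorem wperm_val (w : List ℕ) (r : Fin chevE8.nroots) :
    (CC.wperm (w.map fun x => fidx (x % 8) (Nat.mod_lt _ (by omega))) r).val =
      w.foldr (fun i x => act (i % 8) x) r.val := by
  induction w with
  | nil => rfl
  | cons a w ih =>
    rw [List.map_cons, H54.Ctx.wperm_cons, Equiv.Perm.mul_apply, sigma_act, ih]
    rfl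

theorem tau_mem (c : Cert) (j : Fin 8) : tau c j ∈ InvT.WG CC := CC.wperm_mem (F := ℚ) _

theorem tau_val (h : OK c ds pe) (j : Fin 8) (r : Fin chevE8.nroots) :
    (tau c j r).val = pg (tauR c j.val) r.val := by
  have ht := h.tau
  simp only [tauOK, List.all_eq_true, List.mem_range, beq_iff_eq] at ht
  rw [tau, wperm_val, ht j.val j.isLt r.val (lt240 r)]

/-- The positive even roots. -/
def posT (c : Cert) : Finset (Fin chevE8.nroots) := InvT.fixPart c.v InvT.posRts

theorem mem_posT {c : Cert} (r : Fin chevE8.nroots) : r ∈ posT c ↔ inT c.v r.val = true := by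
  simp only [posT, InvT.fixPart, InvT.posRts, Finset.mem_filter, Finset.mem_univ, true_and, inT,
    Bool.and_eq_true, decide_eq_true_eq, lt240 r, and_true, evF_eq mask_ok (lt240 r)]
  rw [mem_pos_iff r |>.symm]

theorem card_posT (h : OK c ds pe) : (posT c).card = pe := by
  rw [← h.pe, posE, ← List.toFinset_card_of_nodup (List.nodup_range.filter _)]
  refine Finset.card_bij (fun r _ => r.val) ?_ (fun a _ b _ e => Fin.ext e) ?_
  · intro r hr
    rw [mem_posT] at hr
    rw [List.mem_toFinset, List.mem_filter, List.mem_range]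
    exact ⟨lt240 r, hr⟩
  · intro j hj
    rw [List.mem_toFinset, List.mem_filter, List.mem_range] at hj
    exact ⟨root j hj.1, (mem_posT _).2 hj.2, rfl⟩

theorem base_lt (h : OK c ds pe) (j : Fin 8) : baseR c j.val < 240 := by
  have hr := h.refl
  simp only [reflOK, List.all_eq_true, List.mem_range, Bool.and_eq_true, inT,
    decide_eq_true_eq] at hr
  exact (hr j.val j.isLt).1.1.1.1.1.2

theorem refl_spec (h : OK c ds pe) (j : Fin 8) :
    InvT.Refl (posT c) (tau c j) (root _ (base_lt h j)) ∧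
      (tau c j (root _ (base_lt h j))).val = 239 - baseR c j.val := by
  have hr := h.refl
  simp only [reflOK, List.all_eq_true, List.mem_range, Bool.and_eq_true, Bool.or_eq_true,
    beq_iff_eq, decide_eq_true_eq, Bool.not_eq_true'] at hr
  obtain ⟨⟨⟨⟨hb, hout⟩, hneg⟩, hall⟩, -⟩ := hr j.val j.isLt
  refine ⟨⟨?_, ?_, ?_, ?_⟩, ?_⟩
  · refine Equiv.ext fun r => Fin.ext ?_
    rw [Equiv.Perm.mul_apply, tau_val h, tau_val h]
    exact (hall r.val (lt240 r)).1.2
  · exact (mem_posT _).2 hb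
  · rw [mem_posT, tau_val h]
    show ¬ inT c.v (pg (tauR c j.val) (baseR c j.val)) = true
    simp [hout]
  · intro r hr' hne
    rw [mem_posT, tau_val h]
    rw [mem_posT] at hr'
    rcases (hall r.val (lt240 r)).2 with (h' | h') | h'
    · rw [hr'] at h'; exact absurd h' (by decide)
    · exact absurd (Fin.ext h') hne
    · exact h'
  · rw [tau_val h]; exact hneg

theorem tau_stab (h : OK c ds pe) (j : Fin 8) : tau c j ∈ InvT.stabV CC c.v := by
  have hr := h.refl
  simp only [reflOK, List.all_eq_true, List.mem_range, Bool.and_eq_true, beq_iff_eq] at hr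
  refine ⟨tau_mem c j, InvT.ev_ext CC (tau_mem c j) fun k => ?_⟩
  have hk := (hr j.val j.isLt).2 k.val (lt8 k)
  rw [evF_eq mask_ok (lt240 _), tau_val h, simp_val,
    show chevE8.simple k.val = (CC.simpleF k).val from rfl, simp_val,
    evF_eq mask_ok (by rw [← simp_val]; exact lt240 _)]
  exact hk

/-- The groups of the levels. -/
def lvG (c : Cert) (k : ℕ) : Subgroup (Equiv.Perm (Fin chevE8.nroots)) :=
  Subgroup.closure (Set.range fun j : {j : Fin 8 // k ≤ j.val} => tau c j.1)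

theorem lvG_le_WG (c : Cert) (k : ℕ) : lvG c k ≤ InvT.WG CC :=
  (Subgroup.closure_le _).2 (by rintro _ ⟨j, rfl⟩; exact tau_mem c j.1)

theorem tau_mem_lvG (c : Cert) {k : ℕ} (j : Fin 8) (hj : k ≤ j.val) : tau c j ∈ lvG c k :=
  Subgroup.subset_closure ⟨⟨j, hj⟩, rfl⟩

theorem sub_spec (h : OK c ds pe) {k e : ℕ} (h1 : k ≤ e) (h2 : e ≤ 8) :
    ∃ x ∈ lvG c k, ∀ r : Fin chevE8.nroots, (x r).val = sub c e r.val := by
  by_cases he : e = 8
  · exact ⟨1, one_mem _, fun r => by simp [sub, he]⟩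
  · refine ⟨_, tau_mem_lvG c ⟨e, by omega⟩ h1, fun r => ?_⟩
    rw [sub, if_neg he, tau_val h]

/-! ### The orbit. -/

theorem top_rep (h : OK c ds pe) : ∀ p < c.td.length, ∃ π ∈ InvT.WG CC,
    ∀ r : Fin chevE8.nroots, (π r).val = pg (c.td.getD p 0) r.val := by
  have hr := h.topRow
  simp only [topRowOK, List.all_eq_true, List.mem_range] at hr
  intro p
  induction p using Nat.strong_induction_on with
  | _ p ih =>
  intro hp
  have hp' := hr p hp
  by_cases h0 : p = 0
  · rw [if_pos h0] at hp'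
    simp only [List.all_eq_true, List.mem_range, beq_iff_eq] at hp'
    exact ⟨1, one_mem _, fun r => by rw [Equiv.Perm.one_apply, hp' r.val (lt240 r)]⟩
  · rw [if_neg h0] at hp'
    simp only [Bool.and_eq_true, List.all_eq_true, List.mem_range, beq_iff_eq,
      decide_eq_true_eq] at hp'
    obtain ⟨⟨hi, hq⟩, hrow⟩ := hp'
    obtain ⟨π, hπ, hv⟩ := ih _ hq (by omega)
    refine ⟨CC.W.sigma (fidx _ hi) * π, mul_mem (InvT.sigma_mem CC _) hπ, fun r => ?_⟩
    rw [Equiv.Perm.mul_apply, sigma_act, hv, hrow r.val (lt240 r)]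
    rfl

theorem top_ev (h : OK c ds pe) {p : ℕ} (hp : p < c.td.length) {π : Equiv.Perm (Fin chevE8.nroots)}
    (hπ : π ∈ InvT.WG CC) (hv : ∀ r : Fin chevE8.nroots, (π r).val = pg (c.td.getD p 0) r.val) :
    ∀ r : Fin chevE8.nroots,
      InvT.ev chevE8 (c.orb.getD p 0) (π r).val = InvT.ev chevE8 c.v r.val := by
  have hr := h.topOrb
  simp only [topOrbOK, Bool.and_eq_true, List.all_eq_true, List.mem_range, beq_iff_eq,
    decide_eq_true_eq] at hr
  refine InvT.ev_ext CC hπ fun k => ?_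
  have hk := (hr.2 p hp).1.1 k.val (lt8 k)
  rw [evF_eq mask_ok (lt240 _), hv, simp_val,
    show chevE8.simple k.val = (CC.simpleF k).val from rfl, simp_val,
    evF_eq mask_ok (by rw [← simp_val]; exact lt240 _)]
  exact hk

/-- Every sign vector of the orbit comes from the representative. -/
theorem orb_spec (h : OK c ds pe) {w : ℕ} (hw : w ∈ c.orb) :
    w < 256 ∧ ∃ π ∈ InvT.WG CC,
      ∀ r : Fin chevE8.nroots, InvT.ev chevE8 w (π r).val = InvT.ev chevE8 c.v r.val := by
  have hr := h.topOrb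
  simp only [topOrbOK, Bool.and_eq_true, List.all_eq_true, List.mem_range, beq_iff_eq,
    decide_eq_true_eq] at hr
  obtain ⟨p, hp, rfl⟩ := List.getElem_of_mem hw
  have hp' : p < c.td.length := hr.1.1 ▸ hp
  obtain ⟨π, hπ, hv⟩ := top_rep h p hp'
  have e : c.orb.getD p 0 = c.orb[p] := List.getD_eq_getElem _ _ hp
  exact ⟨e ▸ (hr.2 p hp').1.2, π, hπ, e ▸ top_ev h hp' hπ hv⟩

/-- The stabiliser is generated by the reflections of the subsystem. -/
theorem stabV_eq (h : OK c ds pe) : InvT.stabV CC c.v = lvG c 0 := by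
  refine le_antisymm ?_ ((Subgroup.closure_le _).2 (by rintro _ ⟨j, rfl⟩; exact tau_stab h j.1))
  rintro π ⟨hW, hev⟩
  choose d hdW hdv using fun p : Fin c.td.length => top_rep h p.val p.isLt
  have ht := h.topTrans
  simp only [topTransOK, List.all_eq_true, List.mem_range, Bool.and_eq_true, beq_iff_eq,
    decide_eq_true_eq] at ht
  have ho := h.topOrb
  simp only [topOrbOK, Bool.and_eq_true, Bool.or_eq_true, List.all_eq_true, List.any_eq_true,
    List.mem_range, beq_iff_eq, decide_eq_true_eq, bne_iff_ne, ne_eq] at ho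
  have hr0 := h.topRow
  simp only [topRowOK, List.all_eq_true, List.mem_range] at hr0
  have h00 := hr0 0 ho.1.2
  simp only [if_true, List.all_eq_true, List.mem_range, beq_iff_eq] at h00
  have hd0 : ∀ p : Fin c.td.length, p.val = 0 → d p = 1 := fun p hp =>
    Equiv.ext fun r => Fin.ext (by rw [hdv, hp, h00 r.val (lt240 r)]; rfl)
  have hC : InvT.Cover CC.W.sigma (lvG c 0) d := by
    refine ⟨fun i => Equiv.ext fun r => CC.W.valid.act_invol i r, ⟨⟨0, ho.1.2⟩, hd0 _ rfl⟩,
      fun i p => ?_⟩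
    obtain ⟨⟨hp', he⟩, heq⟩ := ht p.val p.isLt i.val (lt8 i)
    obtain ⟨x, hx, hxv⟩ := sub_spec h (Nat.zero_le _) he
    refine ⟨⟨_, hp'⟩, x, hx, InvT.perm_ext CC (mul_mem (InvT.sigma_mem CC i) (hdW p))
      (mul_mem (hdW _) (lvG_le_WG c 0 hx)) fun k => Fin.ext ?_⟩
    rw [Equiv.Perm.mul_apply, Equiv.Perm.mul_apply, sigma_act, hdv, hdv, hxv, simp_val]
    exact heq k.val (lt8 k)
  obtain ⟨p, x, hx, rfl⟩ := hC.exists_eq hW
  have hxs : x ∈ InvT.stabV CC c.v :=
    (Subgroup.closure_le _).2 (by rintro _ ⟨j, rfl⟩; exact tau_stab h j.1) hx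
  rcases (ho.2 p.val p.isLt).2 with h0 | ⟨k, hk, hne⟩
  · rwa [hd0 p h0, one_mul]
  · refine absurd ?_ hne
    obtain ⟨r, hr⟩ := x.surjective (CC.simpleF (fidx k hk))
    have h1 := hev r
    have h2 := hxs.2 r
    rw [Equiv.Perm.mul_apply, ← h2, hr] at h1
    rw [evF_eq mask_ok (lt240 _), hdv, evF_eq mask_ok (lt240 _), simp_val] at h1
    exact h1

/-! ### The levels. -/

theorem fpOf_testBit (S : List ℕ) (P x : ℕ) :
    (fpOf S P).testBit x = true ↔ ∃ r ∈ S, pg P r = x := by
  have key : ∀ (L : List ℕ) (a : ℕ),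
      (L.foldl (fun a r => a ||| 1 <<< pg P r) a).testBit x = true ↔
        a.testBit x = true ∨ ∃ r ∈ L, pg P r = x := by
    intro L
    induction L with
    | nil => simp
    | cons b L ih =>
      intro a
      rw [List.foldl_cons, ih, Nat.testBit_or, Bool.or_eq_true, Nat.one_shiftLeft,
        Nat.testBit_two_pow, decide_eq_true_eq]
      simp [List.mem_cons, or_assoc]
  simp [fpOf, key]

theorem nodup_of_nodupB : ∀ {l : List ℕ}, nodupB l = true → l.Nodup
  | [], _ => List.nodup_nil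
  | a :: l, h => by
    simp only [nodupB, Bool.and_eq_true, List.all_eq_true, bne_iff_ne, ne_eq] at h
    exact List.nodup_cons.2 ⟨fun hm => h.1 a hm rfl, nodup_of_nodupB h.2⟩

/-- The sum of a level. -/
def lvSum (c : Cert) (k q : ℕ) : ℕ :=
  ∑ p ∈ Finset.range (lvl c k).rows.length, q ^ (lvl c k).lens.getD p 0

theorem gSum_level (h : OK c ds pe) {k : ℕ} (hk : k < 8) (q : ℕ) :
    InvT.gSum (posT c) (lvG c k) q = lvSum c k q * InvT.gSum (posT c) (lvG c (k + 1)) q := by
  have hl := h.lv k hk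
  simp only [lvOK, Bool.and_eq_true, List.all_eq_true, List.mem_range, List.mem_range'_1,
    beq_iff_eq, decide_eq_true_eq] at hl
  obtain ⟨⟨⟨⟨hpos, hS⟩, hrow⟩, htr⟩, hnd⟩ := hl
  set l := lvl c k with hldef
  have hrep : ∀ p < l.rows.length, ∃ π ∈ lvG c k,
      ∀ r : Fin chevE8.nroots, (π r).val = pg (l.rows.getD p 0) r.val := by
    intro p
    induction p using Nat.strong_induction_on with
    | _ p ih =>
    intro hp
    have hp' := hrow p hp
    by_cases h0 : p = 0
    · rw [if_pos h0] at hp'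
      simp only [Bool.and_eq_true, List.all_eq_true, List.mem_range, beq_iff_eq] at hp'
      exact ⟨1, one_mem _, fun r => by rw [Equiv.Perm.one_apply, hp'.2 r.val (lt240 r)]⟩
    · rw [if_neg h0] at hp'
      simp only [Bool.and_eq_true, List.all_eq_true, List.mem_range, beq_iff_eq,
        decide_eq_true_eq] at hp'
      obtain ⟨⟨⟨⟨⟨⟨⟨hki, hi⟩, hq⟩, -⟩, -⟩, -⟩, -⟩, hrow'⟩ := hp'
      obtain ⟨π, hπ, hv⟩ := ih _ hq (by omega)
      refine ⟨tau c ⟨_, hi⟩ * π, mul_mem (tau_mem_lvG c ⟨_, hi⟩ hki) hπ, fun r => ?_⟩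
      rw [Equiv.Perm.mul_apply, tau_val h, hv, hrow' r.val (lt240 r)]
  choose d hdG hdv using fun p : Fin l.rows.length => hrep p.val p.isLt
  have hd0 : ∀ p : Fin l.rows.length, p.val = 0 → d p = 1 ∧ l.lens.getD p.val 0 = 0 := by
    intro p hp
    have hp' := hrow p.val p.isLt
    rw [if_pos hp] at hp'
    simp only [Bool.and_eq_true, List.all_eq_true, List.mem_range, beq_iff_eq] at hp'
    exact ⟨Equiv.ext fun r => Fin.ext (by rw [hdv, hp'.2 r.val (lt240 r)]; rfl), hp'.1⟩
  have hC : InvT.Cover (fun j : {j : Fin 8 // k ≤ j.val} => tau c j.1) (lvG c (k + 1)) d := by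
    refine ⟨fun j => (refl_spec h j.1).1.sq, ⟨⟨0, hpos⟩, (hd0 _ rfl).1⟩, fun j p => ?_⟩
    have hj := j.1.isLt
    have hjk := j.2
    obtain ⟨⟨⟨hp', he1⟩, he2⟩, heq⟩ := htr p.val p.isLt (j.1.val - k) (by omega)
    obtain ⟨x, hx, hxv⟩ := sub_spec h (k := k + 1) he1 he2
    refine ⟨⟨_, hp'⟩, x, hx, InvT.perm_ext CC (mul_mem (tau_mem c j.1) (lvG_le_WG c k (hdG p)))
      (mul_mem (lvG_le_WG c k (hdG _)) (lvG_le_WG c (k + 1) hx)) fun a => Fin.ext ?_⟩
    rw [Equiv.Perm.mul_apply, Equiv.Perm.mul_apply, tau_val h, hdv, hdv, hxv, simp_val]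
    have := heq a.val (lt8 a)
    rwa [show k + (j.1.val - k) = j.1.val by omega] at this
  let S : Finset (Fin chevE8.nroots) := Finset.univ.filter fun r => r.val ∈ l.S
  let S' : Finset (Fin chevE8.nroots) := Finset.univ.filter fun r => 239 - r.val ∈ l.S
  have hmS : ∀ r, r ∈ S ↔ r.val ∈ l.S := fun r => by simp [S]
  have hmS' : ∀ r, r ∈ S' ↔ 239 - r.val ∈ l.S := fun r => by simp [S']
  have hHS : ∀ x ∈ lvG c (k + 1), ∀ r, (x r ∈ S ↔ r ∈ S) ∧ (x r ∈ S' ↔ r ∈ S') := by
    intro x hx r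
    have hj : ∀ j : {j : Fin 8 // k + 1 ≤ j.val}, ∀ r ∈ S, tau c j.1 r ∈ S := by
      intro j r hr
      rw [hmS] at hr ⊢
      rw [tau_val h]
      have := (hS r.val hr).2 j.1.val ⟨j.2, by have := j.1.isLt; omega⟩
      simpa [List.contains_iff_mem] using this
    refine ⟨InvT.maps_of_gen hj hx r, ?_⟩
    have hn : ∀ s, s ∈ S' ↔ CC.W.negF s ∈ S := fun s => by rw [hmS', hmS, neg_val]
    rw [hn, hn, ← InvT.map_negF CC (lvG_le_WG c (k + 1) hx)]
    exact InvT.maps_of_gen hj hx _
  have hSlt : ∀ a ∈ l.S, a < 240 := fun a ha => by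
    have := (hS a ha).1
    simp only [inT, Bool.and_eq_true, decide_eq_true_eq] at this
    exact this.1.2
  have key := InvT.gSum_step (T := posT c) q (len := fun p : Fin l.rows.length => l.lens.getD p.val 0)
    hC (Subgroup.closure_mono (by
      rintro _ ⟨j, rfl⟩; exact ⟨⟨j.1, le_trans (Nat.le_succ k) j.2⟩, rfl⟩))
    (S := S) (S' := S') (fun r hr => (mem_posT r).2 (hS r.val ((hmS r).1 hr)).1) ?_ hHS ?_ ?_
  · rw [lvG, key, lvSum, ← hldef, Finset.sum_range fun p => q ^ l.lens.getD p 0]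
  · rw [Finset.disjoint_left]
    intro r hr hr'
    rw [mem_posT, inT, Bool.and_eq_true, Bool.and_eq_true, decide_eq_true_eq] at hr'
    have h1 := (hS _ ((hmS' r).1 hr)).1
    simp only [inT, Bool.and_eq_true, decide_eq_true_eq] at h1
    omega
  · intro p
    by_cases h0 : p.val = 0
    · exact Or.inl (hd0 p h0)
    have hp' := hrow p.val p.isLt
    rw [if_neg h0] at hp'
    simp only [Bool.and_eq_true, List.all_eq_true, List.mem_range, beq_iff_eq,
      decide_eq_true_eq, List.contains_iff_mem] at hp'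
    obtain ⟨⟨⟨⟨⟨⟨⟨hki, hi⟩, hq⟩, hlen⟩, hr0⟩, hb⟩, hb'⟩, hrow'⟩ := hp'
    have hqlt := hq.trans p.isLt
    obtain ⟨hR, hRn⟩ := refl_spec h ⟨_, hi⟩
    refine Or.inr ⟨⟨⟨_, hi⟩, hki⟩, ⟨_, hqlt⟩, _, Equiv.ext fun r => Fin.ext ?_, hlen, hq, hR,
      ⟨root _ (hSlt _ hr0), (hmS _).2 hr0, Fin.ext ?_⟩,
      root _ (show 239 - (l.info.getD p.val (0, 0, 0)).2.2 < 240 by omega), (hmS' _).2 ?_,
      Fin.ext ?_⟩
    · rw [Equiv.Perm.mul_apply, hdv, tau_val h, hdv, hrow' r.val (lt240 r)]
    · rw [hdv]; exact hb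
    · show 239 - (239 - (l.info.getD p.val (0, 0, 0)).2.2) ∈ l.S
      have := hSlt _ hr0
      rwa [show 239 - (239 - (l.info.getD p.val (0, 0, 0)).2.2) =
        (l.info.getD p.val (0, 0, 0)).2.2 by omega]
    · rw [hdv, hRn]; exact hb'
  · intro p p' himg
    have hinj : ∀ x, (fpOf l.S (l.rows.getD p.val 0)).testBit x =
        (fpOf l.S (l.rows.getD p'.val 0)).testBit x := by
      intro x
      rw [Bool.eq_iff_iff, fpOf_testBit, fpOf_testBit]
      have conv : ∀ p : Fin l.rows.length, (∃ r ∈ l.S, pg (l.rows.getD p.val 0) r = x) ↔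
          ∃ z ∈ S.image (d p), z.val = x := by
        intro p
        constructor
        · rintro ⟨r, hr, e⟩
          exact ⟨_, Finset.mem_image_of_mem _ ((hmS (root r (hSlt r hr))).2 hr),
            by rw [hdv]; exact e⟩
        · rintro ⟨z, hz, e⟩
          obtain ⟨r, hr, rfl⟩ := Finset.mem_image.1 hz
          exact ⟨r.val, (hmS r).1 hr, by rw [← hdv]; exact e⟩
      rw [conv, conv, himg]
    have e := Nat.eq_of_testBit_eq hinj
    have hn := nodup_of_nodupB hnd
    rw [List.getD_eq_getElem _ _ p.isLt, List.getD_eq_getElem _ _ p'.isLt] at e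
    refine Fin.ext ((hn.getElem_inj_iff (i := p.val) (j := p'.val) (hi := ?_) (hj := ?_)).1 ?_)
    · simp
    · simp
    · simpa using e

theorem gSum_lvG (h : OK c ds pe) (q : ℕ) : ∀ j ≤ 8,
    InvT.gSum (posT c) (lvG c (8 - j)) q =
      ((List.range' (8 - j) j).map fun k => lvSum c k q).prod := by
  intro j
  induction j with
  | zero =>
    intro _
    have : lvG c 8 = ⊥ := by
      rw [lvG, Subgroup.closure_eq_bot_iff]
      rintro _ ⟨⟨j, hj⟩, rfl⟩
      exact absurd j.isLt (not_lt.2 hj)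
    simp [this, InvT.gSum_bot]
  | succ j ih =>
    intro hj
    rw [List.range'_succ, List.map_cons, List.prod_cons, gSum_level h (by omega) q,
      show 8 - (j + 1) + 1 = 8 - j by omega, ih (by omega)]

/-- The product formula for the stabiliser. -/
theorem stab_sum (h : OK c ds pe) (q : ℕ) (hq : 1 ≤ q) :
    (q - 1) ^ 8 * ∑ᶠ π : ↥(InvT.stabV CC c.v), q ^ InvT.cnt (InvT.fixPart c.v InvT.posRts) π.1 =
      (ds.map fun e => q ^ e - 1).prod := by
  have h0 : ∑ᶠ π : ↥(InvT.stabV CC c.v), q ^ InvT.cnt (InvT.fixPart c.v InvT.posRts) π.1 =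
      ((List.range 8).map fun k => lvSum c k q).prod := by
    rw [stabV_eq h, List.range_eq_range']
    exact gSum_lvG h q 8 le_rfl
  rw [h0]
  apply Int.natCast_inj.1
  have hp := H52.pEval_pEq (q : ℤ) _ _ h.poly
  rw [H52.pEval_pProd, H52.pEval_pProd, List.map_append, List.prod_append, List.map_replicate,
    List.prod_replicate, List.map_map, List.map_map] at hp
  have e1 : ((q - 1 : ℕ) : ℤ) = H52.pEval (q : ℤ) [-1, 1] := by
    rw [Nat.cast_sub hq]; simp [H52.pEval]; ring
  have e2 : ∀ k, ((lvSum c k q : ℕ) : ℤ) = H52.pEval (q : ℤ) (lvPoly c k) := by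
    intro k
    rw [lvPoly, H52.pEval_pSum, List.map_map, lvSum, Nat.cast_sum, ← List.toFinset_range,
      List.sum_toFinset _ List.nodup_range]
    congr 1
    refine List.map_congr_left fun p _ => ?_
    simp [H52.pEval_pMon]
  rw [Nat.cast_mul, Nat.cast_pow, e1, Nat.cast_list_prod, Nat.cast_list_prod, List.map_map,
    List.map_map]
  refine Eq.trans ?_ (hp.trans ?_)
  · congr 2
    exact List.map_congr_left fun k _ => e2 k
  · congr 1
    refine List.map_congr_left fun e _ => ?_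
    simp only [Function.comp_apply, H52.pSubOne, H52.pEval_pAdd, H52.pEval_pMon]
    rw [Nat.cast_sub (Nat.one_le_pow e q hq), Nat.cast_pow, Nat.cast_one]
    simp [H52.pEval]
    ring

end H13.E8I
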